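import Cfsg.Agent.H392.FFourTwo.Chars
import Cfsg.Agent.FourTwo.AutF4
import Cfsg.Agent.FourTwo.Perf
import Cfsg.Agent.H384.AsOut
import Cfsg.Agent.ChevalleyStructure.FieldIso

/-!
# HUB H1: a 2-transitive group with socle `F₄(2)` and even degree has degree 4096 (helper392)
-/

set_option autoImplicit false

open MulAction

namespace Cfsg.Agent.H392.FFourTwo

open Cfsg.Agent.FourTwo.Base Cfsg.Agent.H384.TwoTrans

universe u v

/-- `|F₄(2)|` -/
theorem card_LL : Nat.card LL = 2 ^ 24 * (3 ^ 6 * (5 ^ 2 * (7 ^ 2 * (13 * 17)))) := by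
  rw [Cfsg.Agent.FourTwo.Perf.card_LL]
  norm_num

theorem card_out : Nat.card (Cfsg.Out LL) = 2 := Cfsg.Agent.FourTwo.AutF4.index_inn

def chk1 (m : ℕ) : Bool := decide ((2 ^ 24 * (3 ^ 6 * (5 ^ 2 * (7 ^ 2 * (13 * 17))))) % (m + 1) ≠ 0) ||
    decide (m + 1 < 448) || decide (m + 1 = 4096)

theorem arith_tab : ((List.range 7).all fun a => (List.range 3).all fun b => (List.range 3).all fun c =>
    (List.range 2).all fun d => (List.range 2).all fun e =>
      chk1 (3 ^ a * (5 ^ b * (7 ^ c * (13 ^ d * 17 ^ e))))) = true := by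
  decide +kernel

theorem arith0 {a b c d e : ℕ} (ha : a < 7) (hb : b < 3) (hc : c < 3) (hd : d < 2) (he : e < 2)
    (h : (2 ^ 24 * (3 ^ 6 * (5 ^ 2 * (7 ^ 2 * (13 * 17))))) % (3 ^ a * (5 ^ b * (7 ^ c * (13 ^ d * 17 ^ e))) + 1) = 0)
    (h' : 448 ≤ 3 ^ a * (5 ^ b * (7 ^ c * (13 ^ d * 17 ^ e))) + 1) :
    3 ^ a * (5 ^ b * (7 ^ c * (13 ^ d * 17 ^ e))) + 1 = 4096 := by
  have h1 := arith_tab
  rw [List.all_eq_true] at h1
  have h2 := h1 a (List.mem_range.2 ha)
  rw [List.all_eq_true] at h2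
  have h3 := h2 b (List.mem_range.2 hb)
  rw [List.all_eq_true] at h3
  have h4 := h3 c (List.mem_range.2 hc)
  rw [List.all_eq_true] at h4
  have h5 := h4 d (List.mem_range.2 hd)
  rw [List.all_eq_true] at h5
  have h6 := h5 e (List.mem_range.2 he)
  unfold chk1 at h6
  rw [Bool.or_eq_true, Bool.or_eq_true, decide_eq_true_eq, decide_eq_true_eq, decide_eq_true_eq] at h6
  rcases h6 with (h6 | h6) | h6
  · exact absurd h h6
  · exact absurd h' (not_le.2 h6)
  · exact h6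

/-- the divisors of `p ^ k * m` -/
theorem dvd_split {p k m d : ℕ} (hp : p.Prime) (h : d ∣ p ^ k * m) : ∃ i d', i < k + 1 ∧ d' ∣ m ∧ d = p ^ i * d' := by
  obtain ⟨x, y, hx, hy, rfl⟩ := exists_dvd_and_dvd_of_dvd_mul h
  obtain ⟨i, hi, rfl⟩ := (Nat.dvd_prime_pow hp).1 hx
  exact ⟨i, y, by omega, hy, rfl⟩

theorem arith {n : ℕ} (h2 : 2 ∣ n) (h448 : 448 ≤ n) (h : n ∣ 2 ^ 24 * (3 ^ 6 * (5 ^ 2 * (7 ^ 2 * (13 * 17)))))
    (h' : n - 1 ∣ 2 ^ 25 * (3 ^ 6 * (5 ^ 2 * (7 ^ 2 * (13 * 17))))) : n = 4096 := by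
  have hodd : Nat.Coprime (n - 1) (2 ^ 25) := by
    apply Nat.Coprime.pow_right
    rw [Nat.coprime_two_right]
    obtain ⟨k, rfl⟩ := h2
    exact ⟨k - 1, by omega⟩
  have h1 := hodd.dvd_of_dvd_mul_left h'
  obtain ⟨a, d1, ha, h2', e1⟩ := dvd_split Nat.prime_three h1
  obtain ⟨b, d2, hb, h3, e2⟩ := dvd_split Nat.prime_five h2'
  obtain ⟨c, d3, hc, h4, e3⟩ := dvd_split (by norm_num : Nat.Prime 7) h3
  have h4' : d3 ∣ 13 ^ 1 * 17 := h4
  obtain ⟨d, d4, hd, h5, e4⟩ := dvd_split (by norm_num : Nat.Prime 13) h4'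
  obtain ⟨e, he, e5⟩ : ∃ e < 2, d4 = 17 ^ e := by
    rcases (Nat.dvd_prime (by norm_num : Nat.Prime 17)).1 h5 with h6 | h6
    · exact ⟨0, by norm_num, by rw [h6, pow_zero]⟩
    · exact ⟨1, by norm_num, by rw [h6, pow_one]⟩
  have hn : n = 3 ^ a * (5 ^ b * (7 ^ c * (13 ^ d * 17 ^ e))) + 1 := by
    rw [← e5, ← e4, ← e3, ← e2, ← e1]; omega
  rw [hn]
  exact arith0 ha hb hc hd he (Nat.mod_eq_zero_of_dvd (by rw [← hn]; exact h)) (by rw [← hn]; exact h448)

variable {G : Type u} {Ω : Type v} [Group G] [MulAction G Ω] {T : Subgroup G}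

/-- `n - 1` divides `|G|` -/
theorem pred_dvd (A : AS G Ω T) : Nat.card Ω - 1 ∣ Nat.card G := by
  have := A.finG
  have := A.finΩ
  have h5 := A.five_le
  have hne : Nonempty Ω := by
    rw [← Finite.card_pos_iff]; omega
  obtain ⟨a⟩ := hne
  obtain ⟨b, hb⟩ := A.two_ne a
  have h2 : orbit (stabilizer G a) b = {c | c ≠ a} := by
    ext c
    constructor
    · rintro ⟨g, rfl⟩ h
      apply hb
      have h3 : (g : G) • b = (g : G) • a := by
        rw [mem_stabilizer_iff.1 g.2]; exact h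
      exact MulAction.injective _ h3
    · intro hc
      obtain ⟨g, h3, h4⟩ := A.two' a b a c hb.symm (Ne.symm hc)
      exact ⟨⟨g, mem_stabilizer_iff.2 h3⟩, h4⟩
  have h3 : Nat.card (orbit (stabilizer G a) b) = Nat.card Ω - 1 := by
    rw [h2]
    have : {c : Ω | c ≠ a} = ({a} : Set Ω)ᶜ := by ext; simp
    rw [this, Nat.card_coe_set_eq, Set.ncard_compl, Set.ncard_singleton]
  have h4 : Nat.card (orbit (stabilizer G a) b) ∣ Nat.card (stabilizer G a) := by
    rw [Nat.card_congr (orbitEquivQuotientStabilizer _ _)]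
    exact Subgroup.card_quotient_dvd_card _
  rw [← h3]
  exact h4.trans (Subgroup.card_subgroup_dvd_card _)

theorem degree (A : AS G Ω T) (e : ↥T ≃* LL) (h2 : 2 ∣ Nat.card Ω) : Nat.card Ω = 4096 := by
  have := A.finG
  have := A.finΩ
  have := A.finT
  have := A.faithfulT
  have hT : Nat.card T = 2 ^ 24 * (3 ^ 6 * (5 ^ 2 * (7 ^ 2 * (13 * 17)))) := by
    rw [Nat.card_congr e.toEquiv, card_LL]
  have h5 := A.five_le
  have hne : Nonempty Ω := by
    rw [← Finite.card_pos_iff]; omega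
  obtain ⟨a⟩ := hne
  -- the bound
  have h448 : 448 ≤ Nat.card Ω := by
    let iact : MulAction LL Ω := MulAction.compHom Ω e.symm.toMonoidHom
    by_contra hcon
    have hx : ∀ b : Ω, x 44 • b = b := by
      intro b
      by_contra hb
      exact hcon (le_card hb)
    have h1 : e.symm (x 44) = 1 := by
      apply FaithfulSMul.eq_of_smul_eq_smul (α := Ω)
      intro b
      rw [one_smul]
      exact hx b
    have h2 : x 44 = 1 := by
      have := congrArg e h1
      rwa [e.apply_symm_apply, map_one] at this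
    exact Cfsg.Agent.FourTwo.BN.x_ne_one (by norm_num) h2
  refine arith h2 h448 ?_ ?_
  · rw [← hT]
    exact Dvd.intro _ (A.card_mul a)
  · have h1 := pred_dvd A
    rw [← T.index_mul_card, hT] at h1
    have h3 : T.index ∣ 2 := by
      rw [← card_out]
      exact A.index_dvd_out e
    have h4 := h1.trans (Nat.mul_dvd_mul_right h3 _)
    rwa [← mul_assoc, ← pow_succ'] at h4

/-- the same, for any field with two elements -/
theorem degree' (A : AS G Ω T) {F : Type} [Field F] [Fintype F] (hF : Fintype.card F = 2)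
    (e : ↥T ≃* ↥(Cfsg.Lie.chevF4.group F)) (h2 : 2 ∣ Nat.card Ω) : Nat.card Ω = 4096 := by
  have h3 : Fintype.card (ZMod 2) = Fintype.card F := by rw [hF]; rfl
  let φ : ZMod 2 ≃+* F := FiniteField.ringEquivOfCardEq h3
  exact degree A (e.trans (ChevalleyStructure.FieldIso.groupEquiv Cfsg.Lie.chevF4 φ).symm) h2

end Cfsg.Agent.H392.FFourTwo
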