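import Cfsg.Agent.H392.FFourTwo.Bound

/-!
# `F₄(2)`: the degree of an action in which `x 44` moves a point is at least 448 (helper392)
-/

set_option autoImplicit false
set_option maxRecDepth 100000

open MulAction
open scoped commutatorElement

namespace Cfsg.Agent.H392.FFourTwo

open Cfsg.Agent.FourTwo.Base Cfsg.Agent.FourTwo.Comm Cfsg.Agent.FourTwo.Par Cfsg.Agent.H392.CharBound

attribute [local irreducible] x

/-- the sign of a bit -/
noncomputable def sg (b : Bool) : ℂˣ := if b then -1 else 1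

theorem sg_true : sg true = -1 := rfl
theorem sg_false : sg false = 1 := rfl

theorem sg_xor (a b : Bool) : sg (xor a b) = sg a * sg b := by
  cases a <;> cases b <;> simp [sg]

theorem neg_one_ne : (-1 : ℂˣ) ≠ 1 := by
  intro h
  have h1 := congrArg (Units.val) h
  rw [Units.val_neg, Units.val_one] at h1
  norm_num at h1

theorem sg_inj {a b : Bool} (h : sg a = sg b) : a = b := by
  cases a <;> cases b
  · rfl
  · exact absurd h.symm neg_one_ne
  · exact absurd h neg_one_ne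
  · rfl

/-- the value of a character at an element of order two is a sign -/
theorem exists_sg {u : ℂˣ} (h : u * u = 1) : ∃ b, u = sg b := by
  have h1 : (u : ℂ) * u = 1 := by rw [← Units.val_mul, h, Units.val_one]
  rcases mul_self_eq_one_iff.1 h1 with h2 | h2
  · exact ⟨false, by rw [sg_false]; exact Units.ext h2⟩
  · exact ⟨true, by rw [sg_true]; exact Units.ext (by rw [h2, Units.val_neg, Units.val_one])⟩

/-- `x (41 + j)` in `W` -/
theorem xW {j : ℕ} (hj : j < 7) : x (41 + j) ∈ W := x_mem_W (by omega) (by omega)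

theorem mem_W_of {k : ℕ} (h : 41 ≤ k ∧ k < 48) : x k ∈ W := x_mem_W h.1 h.2

/-- `m` is the code of `l` -/
def IsCode (l : W →* ℂˣ) (m : ℕ) : Prop :=
  m < 128 ∧ ∀ (j : ℕ) (hj : j < 7), l ⟨x (41 + j), xW hj⟩ = sg (m.testBit j)

theorem exists_code (l : W →* ℂˣ) : ∃ m, IsCode l m := by
  have h : ∀ j : Fin 7, ∃ b, l ⟨x (41 + j), xW j.2⟩ = sg b := fun j => exists_sg (by
    rw [← map_mul]
    have : (⟨x (41 + j), xW j.2⟩ * ⟨x (41 + j), xW j.2⟩ : W) = 1 := Subtype.ext (x_mul_self _)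
    rw [this, map_one])
  choose f hf using h
  refine ⟨Nat.ofBits f, Nat.ofBits_lt_two_pow f, fun j hj => ?_⟩
  rw [Nat.testBit_ofBits_lt f j hj]
  exact hf ⟨j, hj⟩

/-- the values at words -/
theorem code_wd {l : W →* ℂˣ} {m : ℕ} (h : IsCode l m) : ∀ (L : List ℕ) (_hL : ∀ k ∈ L, 41 ≤ k ∧ k < 48)
    (hw : wd L ∈ W) (a : Bool), sg a * l ⟨wd L, hw⟩ = sg (L.foldl (fun a k => xor a (m.testBit (k - 41))) a) := by
  intro L
  induction L with
  | nil =>
    intro _ hw a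
    have : (⟨wd [], hw⟩ : W) = 1 := Subtype.ext wd_nil
    rw [this, map_one, mul_one, List.foldl_nil]
  | cons k L ih =>
    intro hL hw a
    have hk := hL k List.mem_cons_self
    have hxk : x k ∈ W := mem_W_of hk
    have hw' : wd L ∈ W := by
      have h1 := mul_mem (inv_mem hxk) hw
      rwa [wd_cons, inv_mul_cancel_left] at h1
    have e : (⟨wd (k :: L), hw⟩ : W) = ⟨x k, hxk⟩ * ⟨wd L, hw'⟩ := Subtype.ext (wd_cons k L)
    have h2 : l ⟨x k, hxk⟩ = sg (m.testBit (k - 41)) := by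
      have h3 := h.2 (k - 41) (by omega)
      have h4 : (⟨x (41 + (k - 41)), xW (by omega)⟩ : W) = ⟨x k, hxk⟩ :=
        Subtype.ext (congrArg x (Nat.add_sub_cancel' hk.1))
      rwa [h4] at h3
    rw [e, map_mul, h2, List.foldl_cons, ← mul_assoc, ← sg_xor]
    exact ih (fun k' hk' => hL k' (List.mem_cons_of_mem _ hk')) hw' _

theorem gens_lt : ∀ r ∈ gens, r < 48 ∧ 20 ≤ r ∧ r < 41 := by decide
theorem sum_ne : ∀ r ∈ gens, ∀ j < 7, r + (41 + j) ≠ 47 := by decide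

/-- conjugation by an element normalising `W` -/
def cj {G : Type*} [Group G] {W : Subgroup G} {g : G} (h : ∀ w ∈ W, g * w * g⁻¹ ∈ W) : W →* W where
  toFun w := ⟨g * w * g⁻¹, h w w.2⟩
  map_one' := Subtype.ext (by simp)
  map_mul' a b := Subtype.ext (by simp [mul_assoc])

theorem normB_gens : normB gens.contains PW = true := by decide +kernel

theorem conjW {r : ℕ} (hr : r ∈ gens) : ∀ w ∈ W, x r * w * (x r)⁻¹ ∈ W := fun _ hw =>
  conj_mem normB_gens (x_mem_RG (gens_lt r hr).1 (by rw [List.contains_iff_mem]; exact hr)) hw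

theorem cj_code {l : W →* ℂˣ} {m : ℕ} (h : IsCode l m) {r : ℕ} (hr : r ∈ gens) :
    IsCode (l.comp (cj (conjW hr))) (phi r m) := by
  refine ⟨phi_lt hr h.1, fun j hj => ?_⟩
  have hr' := gens_lt r hr
  rw [phi_bit hr h.1 hj, bitx]
  have hc := cmg_W hr hj
  have hw : wd (cmg r (41 + j)) ∈ W := wd_mem_RG fun k hk => ⟨(hc k hk).2, decide_eq_true (hc k hk).1⟩
  have e : cj (conjW hr) ⟨x (41 + j), xW hj⟩ = ⟨x (41 + j), xW hj⟩ * ⟨wd (cmg r (41 + j)), hw⟩ :=
    Subtype.ext (conj_x hr'.1 (by omega) (by omega) (sum_ne r hr j hj))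
  rw [← code_wd h _ hc hw, ← h.2 j hj, MonoidHom.comp_apply, e, map_mul]

variable {Ω : Type*} [MulAction LL Ω] [Finite Ω]

omit [Finite Ω] in
theorem cj_SS {l : W →* ℂˣ} (h : (SS Ω W l).Nonempty) {r : ℕ} (hr : r ∈ gens) :
    (SS Ω W (l.comp (cj (conjW hr)))).Nonempty := by
  obtain ⟨b, hb⟩ := h
  refine ⟨(x r)⁻¹ • b, fun w hw hwb => ?_⟩
  have h1 : (x r * w * (x r)⁻¹) • b = b := by
    rw [mul_smul, mul_smul, hwb, smul_inv_smul]
  exact hb _ (conjW hr w hw) h1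

/-- the codes that occur -/
def CC (Ω : Type*) [MulAction LL Ω] : Set ℕ := {m | ∃ l : W →* ℂˣ, (SS Ω W l).Nonempty ∧ IsCode l m}

omit [Finite Ω] in
theorem CC_closed : ∀ m ∈ CC Ω, ∀ r ∈ gens, phi r m ∈ CC Ω := by
  rintro m ⟨l, h1, h2⟩ r hr
  exact ⟨_, cj_SS h1 hr, cj_code h2 hr⟩

/-- separating characters of an abelian subgroup -/
theorem exists_char {G : Type*} [Group G] [Finite G] {A K : Subgroup G} (hA : ∀ a ∈ A, ∀ b ∈ A, a * b = b * a)
    (hK : K ≤ A) {z : G} (hz : z ∈ A) (hzK : z ∉ K) :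
    ∃ l : A →* ℂˣ, (∀ (w : G) (hw : w ∈ K), l ⟨w, hK hw⟩ = 1) ∧ l ⟨z, hz⟩ ≠ 1 := by
  let iA : CommGroup A := { (inferInstance : Group A) with mul_comm := fun a b => Subtype.ext (hA a a.2 b b.2) }
  let K' : Subgroup A := K.subgroupOf A
  have hne : (QuotientGroup.mk ⟨z, hz⟩ : A ⧸ K') ≠ 1 := by
    rw [ne_eq, QuotientGroup.eq_one_iff]
    exact fun h => hzK (Subgroup.mem_subgroupOf.1 h)
  obtain ⟨φ, hφ⟩ := CommGroup.exists_apply_ne_one_of_hasEnoughRootsOfUnity (A ⧸ K') ℂ hne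
  refine ⟨φ.comp (QuotientGroup.mk' K'), fun w hw => ?_, hφ⟩
  rw [MonoidHom.comp_apply, QuotientGroup.mk'_apply, (QuotientGroup.eq_one_iff _).2, map_one]
  exact Subgroup.mem_subgroupOf.2 hw

theorem x44_W : x 44 ∈ W := x_mem_W (by norm_num) (by norm_num)

omit [Finite Ω] in
theorem CC_nonempty {b : Ω} (hb : x 44 • b ≠ b) : ∃ m ∈ CC Ω, m.testBit 3 = true := by
  obtain ⟨l, h1, h2⟩ := exists_char (A := W) (K := st W b) (fun a ha b hb => W_comm ha (W_le_Q hb))
    (st_le W b) x44_W (fun h => hb (mem_st.1 h).2)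
  obtain ⟨m, hm⟩ := exists_code l
  refine ⟨m, ⟨l, ⟨b, fun w hw hwb => h1 w (mem_st.2 ⟨hw, hwb⟩)⟩, hm⟩, ?_⟩
  by_contra h3
  apply h2
  have h4 := hm.2 3 (by norm_num)
  rw [Bool.not_eq_true] at h3
  rw [h3, sg_false] at h4
  exact h4

/-! ### nondegeneracy -/

theorem comm_prod {G : Type*} [Group G] {a g t u v : G} (h1 : ⁅a, t⁆ = u) (h2 : ⁅g, t⁆ = v) (h3 : a * v = v * a) :
    ⁅a * g, t⁆ = v * u := by
  rw [← h1, ← h2] at *
  rw [commutatorElement_def, commutatorElement_def, commutatorElement_def] at *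
  calc a * g * t * (a * g)⁻¹ * t⁻¹ = a * (g * t * g⁻¹ * t⁻¹) * (t * a⁻¹ * t⁻¹) := by group
    _ = g * t * g⁻¹ * t⁻¹ * a * (t * a⁻¹ * t⁻¹) := by rw [h3]
    _ = _ := by group

theorem comm_pow {G : Type*} [Group G] {a z : G} (h : z * a = a * z) (n : ℕ) : a * z ^ n = z ^ n * a :=
  (Commute.pow_left (show Commute z a from h) n).symm

theorem comm_list {G : Type*} [Group G] (f : ℕ → G) (z t : G) (c : ℕ) (L : List ℕ)
    (h1 : ∀ k ∈ L, k = c → ⁅f k, t⁆ = z) (h1' : ∀ k ∈ L, k ≠ c → ⁅f k, t⁆ = 1) (h2 : ∀ k ∈ L, z * f k = f k * z) :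
    ⁅(L.map f).prod, t⁆ = z ^ (L.count c) := by
  induction L with
  | nil => rw [List.map_nil, List.prod_nil, commutatorElement_one_left, List.count_nil, pow_zero]
  | cons k L ih =>
    have ih' := ih (fun k' hk' => h1 k' (List.mem_cons_of_mem _ hk')) (fun k' hk' => h1' k' (List.mem_cons_of_mem _ hk'))
      fun k' hk' => h2 k' (List.mem_cons_of_mem _ hk')
    have h3 := comm_pow (h2 k List.mem_cons_self) (L.count c)
    rw [List.map_cons, List.prod_cons, List.count_cons]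
    by_cases h : k = c
    · rw [comm_prod (h1 k List.mem_cons_self h) ih' h3, if_pos (by rw [beq_iff_eq]; exact h), pow_succ]
    · rw [comm_prod (h1' k List.mem_cons_self h) ih' h3, if_neg (by rw [beq_iff_eq]; exact h), mul_one, add_zero]

theorem comm_wd {t : ℕ} (ht : 33 ≤ t) (ht' : t < 48) (L : List ℕ) (hL : ∀ k ∈ L, 33 ≤ k ∧ k < 48) :
    ⁅wd L, x t⁆ = x 44 ^ (L.count (73 - t)) :=
  comm_list x (x 44) (x t) (73 - t) L
    (fun k hk h => comm_xx1 (hL k hk).1 (hL k hk).2 ht ht' (by omega))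
    (fun k hk h => comm_xx2 (hL k hk).1 (hL k hk).2 ht ht' (by omega))
    (fun k hk => x44_comm (x_mem_Q (hL k hk).1 (hL k hk).2))

theorem count_filter {P : ℕ → Bool} {k : ℕ} (hk : k ∈ (ChevalleyStructure.F4TwU.posList 24).filter P) :
    ((ChevalleyStructure.F4TwU.posList 24).filter P).count k = 1 :=
  List.count_eq_one_of_mem (Cfsg.Agent.FourTwo.Cent.nodup_posList.filter _) hk

theorem nondeg {l : W →* ℂˣ} (hl : l ⟨x 44, x44_W⟩ ≠ 1) {q : LL} (hq : q ∈ Q)
    (h : ∀ (q' : LL) (hq' : q' ∈ Q), l ⟨⁅q, q'⁆, comm_mem_W hq hq'⟩ = 1) : q ∈ W := by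
  obtain ⟨S, rfl⟩ := nf_RG closedQ hq
  have hL : ∀ k ∈ (ChevalleyStructure.F4TwU.posList 24).filter fun r => PQ r && S r, 33 ≤ k ∧ k < 48 := by
    intro k hk
    rw [List.mem_filter, ChevalleyStructure.F4TwU.mem_posList, Bool.and_eq_true] at hk
    exact ⟨of_decide_eq_true hk.2.1, hk.1.2⟩
  refine wd_mem_RG fun k hk => ⟨(hL k hk).2, decide_eq_true ?_⟩
  by_contra hcon
  have hk' := hL k hk
  have ht : 33 ≤ 73 - k := by omega
  have ht' : 73 - k < 48 := by omega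
  have h2 := comm_wd ht ht' _ hL
  rw [show 73 - (73 - k) = k by omega, count_filter hk, pow_one] at h2
  have h1 := h (x (73 - k)) (x_mem_Q ht ht')
  apply hl
  have h4 : (⟨x 44, x44_W⟩ : W) = ⟨_, comm_mem_W hq (x_mem_Q ht ht')⟩ := Subtype.ext h2.symm
  rw [h4]
  exact h1

theorem card_Q : Nat.card Q = 2 ^ 15 := by
  rw [Cfsg.Agent.FourTwo.Cent.card_RG closedQ]
  decide +kernel

theorem card_W : Nat.card W = 2 ^ 7 := by
  rw [Cfsg.Agent.FourTwo.Cent.card_RG closedW]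
  decide +kernel

theorem bit3 : ∀ r ∈ gens, ∀ m < 128, m.testBit 3 = true → (phi r m).testBit 3 = true := by decide +kernel

theorem code_inj {l : W →* ℂˣ} {m m' : ℕ} (h : IsCode l m) (h' : IsCode l m') : m = m' := by
  apply Nat.eq_of_testBit_eq
  intro i
  rcases Nat.lt_or_ge i 7 with hi | hi
  · apply sg_inj
    rw [← h.2 i hi, ← h'.2 i hi]
  · have h1 : 2 ^ 7 ≤ 2 ^ i := Nat.pow_le_pow_right (by norm_num) hi
    rw [Nat.testBit_lt_two_pow (lt_of_lt_of_le h.1 h1), Nat.testBit_lt_two_pow (lt_of_lt_of_le h'.1 h1)]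

/-- the bound -/
theorem le_card {b : Ω} (hb : x 44 • b ≠ b) : 448 ≤ Nat.card Ω := by
  classical
  obtain ⟨m, hm, h3⟩ := CC_nonempty hb
  have h128 : ∀ m ∈ CC Ω, m < 128 := fun m hm => by
    obtain ⟨l, _, h⟩ := hm
    exact h.1
  obtain ⟨L, hL1, hL2, hL3⟩ := exists_list (C := {m | m ∈ CC Ω ∧ m.testBit 3 = true}) (fun m hm => h128 m hm.1)
    (fun m hm r hr => ⟨CC_closed m hm.1 r hr, bit3 r hr m (h128 m hm.1) hm.2⟩) ⟨hm, h3⟩ h3
  have hex : ∀ m ∈ CC Ω, ∃ l : W →* ℂˣ, (SS Ω W l).Nonempty ∧ IsCode l m := fun m hm => hm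
  choose! f hf using hex
  have hcard : (L.toFinset.image f).card = L.length := by
    rw [Finset.card_image_of_injOn, List.toFinset_card_of_nodup hL1]
    intro m1 h1 m2 h2 e
    rw [Finset.mem_coe, List.mem_toFinset] at h1 h2
    have h4 := (hf m1 (hL3 m1 h1).1).2
    rw [e] at h4
    exact code_inj h4 (hf m2 (hL3 m2 h2).1).2
  have key := card_mul_le (Ω := Ω) Q W W_le_Q (fun w hw q hq => W_comm hw hq)
    (fun q hq q' hq' => comm_mem_W hq hq') (L.toFinset.image f) (by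
      intro l hl q hq h
      rw [Finset.mem_image] at hl
      obtain ⟨m1, h1, rfl⟩ := hl
      rw [List.mem_toFinset] at h1
      have h4 := (hf m1 (hL3 m1 h1).1).2
      refine nondeg ?_ hq h
      have h5 := h4.2 3 (by norm_num)
      rw [(hL3 m1 h1).2, sg_true] at h5
      intro h6
      exact neg_one_ne (h5.symm.trans h6)) (by
      intro l hl
      rw [Finset.mem_image] at hl
      obtain ⟨m1, h1, rfl⟩ := hl
      rw [List.mem_toFinset] at h1
      exact (hf m1 (hL3 m1 h1).1).1) (m := 2 ^ 11) (by rw [card_Q, card_W]; norm_num)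
  rw [hcard, card_W] at key
  have h6 : 28 * 2 ^ 11 ≤ L.length * 2 ^ 11 := Nat.mul_le_mul_right _ hL2
  omega

end Cfsg.Agent.H392.FFourTwo
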