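import Cfsg.Agent.H392.FFourTwo.Codes
import Cfsg.Agent.H392.CharBound
import Cfsg.Agent.FourTwo.Cent

/-!
# `F₄(2)`: a nontrivial action has degree at least 448 (helper392)
-/

set_option autoImplicit false
set_option maxRecDepth 100000

open MulAction
open scoped commutatorElement

namespace Cfsg.Agent.H392.FFourTwo

open Cfsg.Agent.FourTwo.Base Cfsg.Agent.FourTwo.Comm Cfsg.Agent.FourTwo.Par Cfsg.Agent.H392.CharBound

attribute [local irreducible] x

/-- `Q_s = ⟨x 33, …, x 47⟩` -/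
def PQ (r : ℕ) : Bool := decide (33 ≤ r)
/-- `W_s = ⟨x 41, …, x 47⟩` -/
def PW (r : ℕ) : Bool := decide (41 ≤ r)

abbrev Q : Subgroup LL := RG PQ
abbrev W : Subgroup LL := RG PW

theorem closedQ : closedB PQ = true := by decide +kernel
theorem closedW : closedB PW = true := by decide +kernel

theorem W_le_Q : W ≤ Q := RG_mono fun r _ h => by
  have : 41 ≤ r := by simpa [PW] using h
  simp only [PQ, decide_eq_true_eq]; omega

theorem x_mem_W {r : ℕ} (h : 41 ≤ r) (h' : r < 48) : x r ∈ W := x_mem_RG h' (by simpa [PW] using h)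
theorem x_mem_Q {r : ℕ} (h : 33 ≤ r) (h' : r < 48) : x r ∈ Q := x_mem_RG h' (by simpa [PQ] using h)

/-- the commutators in `Q` of root elements -/
theorem cmg_Q : ((List.range 15).all fun r => (List.range 15).all fun s =>
    cmg (33 + r) (33 + s) == (if r + s = 7 then [44] else [])) = true := by decide +kernel

theorem cmg_eq {r s : ℕ} (hr : 33 ≤ r) (hr' : r < 48) (hs : 33 ≤ s) (hs' : s < 48) :
    cmg r s = if r + s = 73 then [44] else [] := by
  have h := cmg_Q
  rw [List.all_eq_true] at h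
  have h1 := h (r - 33) (List.mem_range.2 (by omega))
  rw [List.all_eq_true] at h1
  have h2 := h1 (s - 33) (List.mem_range.2 (by omega))
  rw [beq_iff_eq, Nat.add_sub_cancel' hr, Nat.add_sub_cancel' hs] at h2
  rw [h2]
  have : (r - 33 + (s - 33) = 7) ↔ r + s = 73 := by omega
  simp only [this]

theorem comm_x {r s : ℕ} (hr : 33 ≤ r) (hr' : r < 48) (hs : 33 ≤ s) (hs' : s < 48) :
    x r * x s = x s * (if r + s = 73 then x 44 else 1) * x r := by
  rcases eq_or_ne r s with rfl | hrs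
  · rw [if_neg (by omega), mul_one]
  · rw [comm_all hr' hs' hrs (by omega), cmg_eq hr hr' hs hs']
    split_ifs
    · rw [wd_one]
    · rw [wd_nil]

/-- `x 44` is central in `Q` -/
theorem x44_comm {q : LL} (hq : q ∈ Q) : x 44 * q = q * x 44 := by
  have : Q ≤ Subgroup.centralizer {x 44} := RG_le fun r hr hp => by
    rw [Subgroup.mem_centralizer_singleton_iff]
    have h1 : 33 ≤ r := by simpa [PQ] using hp
    have := comm_x h1 hr (s := 44) (by norm_num) (by norm_num)
    rw [if_neg (by omega), mul_one] at this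
    exact this
  exact (Subgroup.mem_centralizer_singleton_iff.1 (this hq)).symm

theorem W_comm {w q : LL} (hw : w ∈ W) (hq : q ∈ Q) : w * q = q * w := by
  have : W ≤ Subgroup.centralizer (Q : Set LL) := RG_le fun s hs hp => by
    have h1 : 41 ≤ s := by simpa [PW] using hp
    have h2 : Q ≤ Subgroup.centralizer {x s} := RG_le fun r hr hp => by
      rw [Subgroup.mem_centralizer_singleton_iff]
      have h3 : 33 ≤ r := by simpa [PQ] using hp
      have := comm_x h3 hr (s := s) (by omega) hs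
      rw [if_neg (by omega), mul_one] at this
      exact this
    rw [Subgroup.mem_centralizer_iff]
    intro q hq
    exact Subgroup.mem_centralizer_singleton_iff.1 (h2 hq)
  exact (Subgroup.mem_centralizer_iff.1 (this hw) q hq).symm

/-- a commutator in a group of class two -/
theorem comm_mem_of_gen {G : Type*} [Group G] {A : Set G} {Z : Subgroup G}
    (hZ : ∀ z ∈ Z, ∀ q ∈ Subgroup.closure A, z * q = q * z)
    (h : ∀ a ∈ A, ∀ b ∈ A, ⁅a, b⁆ ∈ Z) : ∀ a ∈ Subgroup.closure A, ∀ b ∈ Subgroup.closure A, ⁅a, b⁆ ∈ Z := by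
  have mulr : ∀ a ∈ Subgroup.closure A, ∀ b ∈ Subgroup.closure A, ∀ c ∈ Subgroup.closure A, ⁅a, b⁆ ∈ Z → ⁅a, c⁆ ∈ Z →
      ⁅a, b * c⁆ = ⁅a, b⁆ * ⁅a, c⁆ := by
    intro a _ b hb c _ _ h2
    have h3 := hZ _ h2 b hb
    calc ⁅a, b * c⁆ = ⁅a, b⁆ * (b * ⁅a, c⁆ * b⁻¹) := by simp only [commutatorElement_def]; group
      _ = _ := by rw [← h3, mul_inv_cancel_right]
  have invr : ∀ a ∈ Subgroup.closure A, ∀ b ∈ Subgroup.closure A, ⁅a, b⁆ ∈ Z → ⁅a, b⁻¹⁆ ∈ Z := by
    intro a _ b hb h1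
    have h3 := hZ _ (inv_mem h1) b hb
    have : ⁅a, b⁻¹⁆ = b⁻¹ * (⁅a, b⁆⁻¹ * b) := by simp only [commutatorElement_def]; group
    rw [this, h3, inv_mul_cancel_left]
    exact inv_mem h1
  have key : ∀ a ∈ Subgroup.closure A, (∀ b ∈ A, ⁅a, b⁆ ∈ Z) → ∀ b ∈ Subgroup.closure A, ⁅a, b⁆ ∈ Z := by
    intro a ha hA b hb
    induction hb using Subgroup.closure_induction with
    | mem b hb => exact hA b hb
    | one => rw [commutatorElement_one_right]; exact one_mem _
    | mul b c hb hc ihb ihc => rw [mulr a ha b hb c hc ihb ihc]; exact mul_mem ihb ihc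
    | inv b hb ihb => exact invr a ha b hb ihb
  have k1 : ∀ a ∈ A, ∀ b ∈ Subgroup.closure A, ⁅a, b⁆ ∈ Z := fun a ha => key a (Subgroup.subset_closure ha) (h a ha)
  intro a ha b hb
  refine key a ha (fun c hc => ?_) b hb
  rw [← commutatorElement_inv]
  exact inv_mem (k1 c hc a ha)

theorem comm_of_mul {G : Type*} [Group G] {a b z : G} (h : a * b = b * z * a) : ⁅a, b⁆ = b * z * b⁻¹ := by
  rw [commutatorElement_def, h]; group

theorem comm_of_mul' {G : Type*} [Group G] {a b z : G} (h : a * b = b * z * a) (h1 : z * b = b * z) : ⁅a, b⁆ = z := by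
  rw [comm_of_mul h, ← h1, mul_inv_cancel_right]

theorem comm_xx1 {r s : ℕ} (hr : 33 ≤ r) (hr' : r < 48) (hs : 33 ≤ s) (hs' : s < 48) (h : r + s = 73) :
    ⁅x r, x s⁆ = x 44 := by
  have h1 := comm_x hr hr' hs hs'
  rw [if_pos h] at h1
  exact comm_of_mul' h1 (x44_comm (x_mem_Q hs hs'))

theorem comm_xx2 {r s : ℕ} (hr : 33 ≤ r) (hr' : r < 48) (hs : 33 ≤ s) (hs' : s < 48) (h : r + s ≠ 73) :
    ⁅x r, x s⁆ = 1 := by
  have h1 := comm_x hr hr' hs hs'
  rw [if_neg h] at h1
  exact comm_of_mul' h1 (by rw [one_mul, mul_one])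

theorem comm_mem {q q' : LL} (hq : q ∈ Q) (hq' : q' ∈ Q) : ⁅q, q'⁆ ∈ Subgroup.zpowers (x 44) := by
  have hZ : Subgroup.zpowers (x 44) ≤ Subgroup.centralizer (Q : Set LL) := by
    rw [Subgroup.zpowers_le, Subgroup.mem_centralizer_iff]
    exact fun g hg => (x44_comm hg).symm
  refine comm_mem_of_gen (Z := Subgroup.zpowers (x 44)) ?_ ?_ q hq q' hq'
  · intro z hz g hg
    exact (Subgroup.mem_centralizer_iff.1 (hZ hz) g hg).symm
  · rintro _ ⟨r, hr, hp, rfl⟩ _ ⟨s, hs, hp', rfl⟩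
    have h1 : 33 ≤ r := of_decide_eq_true hp
    have h2 : 33 ≤ s := of_decide_eq_true hp'
    by_cases h : r + s = 73
    · rw [comm_xx1 h1 hr h2 hs h]
      exact Subgroup.mem_zpowers _
    · rw [comm_xx2 h1 hr h2 hs h]
      exact one_mem _

theorem zpow_W : Subgroup.zpowers (x 44) ≤ W := by
  rw [Subgroup.zpowers_le]
  exact x_mem_W (by norm_num) (by norm_num)

theorem comm_mem_W {q q' : LL} (hq : q ∈ Q) (hq' : q' ∈ Q) : ⁅q, q'⁆ ∈ W := zpow_W (comm_mem hq hq')

end Cfsg.Agent.H392.FFourTwo
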